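import Groth.Agent.AffProjFormLib.Basic
import Groth.Agent.RpushLib.Comp
import Groth.Agent.RpushLib.FlatRpush
import Groth.Agent.RpushLib.Sections
import Groth.Agent.SerreVanLib.Rpush
import Groth.Agent.KFlatLib.PullTensor
import Groth.Agent.S12131
import Groth.Agent.S2297

/-!
# Vanishing of higher direct images after an affine base change
-/

set_option autoImplicit false
set_option linter.style.haveILetI false
set_option maxHeartbeats 1000000
universe u

open CategoryTheory CategoryTheory.Limits AlgebraicGeometry TopologicalSpace Opposite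
open KFlatLib CohBCLib

noncomputable section

namespace AffVanBCLib

/-- Vanishing descends along an affine morphism out of the target. -/
theorem isZero_rpush_of_comp_affine {P B Y : Scheme.{u}} (p : P ⟶ B) (e : B ⟶ Y) [IsAffineHom e]
    [QuasiCompact p] [QuasiSeparated p] [HasInjectiveResolutions P.Modules]
    (M : P.Modules) [Coh.IsQCoh M] (q : ℕ) (h : IsZero ((Coh.Rpush (p ≫ e) q).obj M)) :
    IsZero ((Coh.Rpush p q).obj M) := by
  haveI := RpushLib.isQCoh_Rpush p M q
  refine DevissLib.isZero_of_support_empty (Set.eq_empty_iff_forall_notMem.2 fun y hy => ?_)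
  obtain ⟨W, hW, hyW, -⟩ := exists_isAffineOpen_mem_and_subset (x := e y) (U := ⊤) trivial
  have h0 : Subsingleton Γ((Coh.Rpush (p ≫ e) q).obj M, W) :=
    subsingleton_of_forall_eq 0 fun t =>
      congr(Scheme.Modules.Hom.app $((IsZero.iff_id_eq_zero _).1 h) W t)
  have h1 : Subsingleton (Coh.HHon P M (p ⁻¹ᵁ (e ⁻¹ᵁ W)) q) :=
    (RpushLib.rpushSectionsEquiv (p ≫ e) M q hW).symm.injective.subsingleton
  exact hy (SerreVanLib.subsingleton_stalk_of_sections _ (hW.preimage e)
    (RpushLib.rpushSectionsEquiv p M q (hW.preimage e)).injective.subsingleton hyW)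

theorem isZero_of_affine {A X Z P B Y : Scheme.{u}} {a : A ⟶ X} {c : Z ⟶ X} {h : P ⟶ A} {a' : P ⟶ Z}
    (H : IsPullback h a' a c) [IsAffineHom a] (d : Z ⟶ Y) [QuasiCompact d] [QuasiSeparated d]
    (p : P ⟶ B) (e : B ⟶ Y) [IsAffineHom e] [QuasiCompact p] [QuasiSeparated p] (he : p ≫ e = a' ≫ d)
    [HasInjectiveResolutions P.Modules] [HasInjectiveResolutions Z.Modules]
    (F : A.Modules) [Coh.IsQCoh F] (K : Z.Modules) [Coh.IsQCoh K] (q : ℕ)
    (hac : ∀ G : X.Modules, Coh.IsQCoh G →
      IsZero ((Coh.Rpush d q).obj (CohB1.tensorMod ((Scheme.Modules.pullback c).obj G) K))) :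
    IsZero ((Coh.Rpush p q).obj
      (CohB1.tensorMod ((Scheme.Modules.pullback h).obj F) ((Scheme.Modules.pullback a').obj K))) := by
  haveI : IsAffineHom a' := MorphismProperty.of_isPullback H ‹IsAffineHom a›
  let G := (Scheme.Modules.pushforward a).obj F
  haveI : Coh.IsQCoh G := QCohLib.isQCoh_pushforward a F
  let hF := (Scheme.Modules.pullback h).obj F
  haveI : Coh.IsQCoh hF := KFlatLib.isQCoh_pullback h F
  haveI : Coh.IsQCoh ((Scheme.Modules.pullback a').obj K) := KFlatLib.isQCoh_pullback a' K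
  haveI : Coh.IsQCoh (pf a' hF) := QCohLib.isQCoh_pushforward a' hF
  haveI : Coh.IsQCoh (tens (pf a' hF) K) := (Groth.Agent.S2297.result (pf a' hF) K).1
  haveI hM : Coh.IsQCoh (tens hF (pb a' K)) := (Groth.Agent.S2297.result hF (pb a' K)).1
  haveI := Groth.Agent.S12131.result a c h a' H F
  let bc : (Scheme.Modules.pullback c).obj G ≅ pf a' hF := asIso
    (((Scheme.Modules.pullbackPushforwardAdjunction c).homEquiv G
        ((Scheme.Modules.pushforward a').obj hF)).symm
      ((Scheme.Modules.pushforward a).map ((Scheme.Modules.pullbackPushforwardAdjunction h).unit.app F) ≫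
        (Scheme.Modules.pushforwardComp h a).hom.app hF ≫
        (Scheme.Modules.pushforwardCongr H.w).hom.app hF ≫
        (Scheme.Modules.pushforwardComp a' c).inv.app hF))
  haveI := AffProjFormLib.isIso_projR a' hF K
  let e₁ : CohB1.tensorMod ((Scheme.Modules.pullback c).obj G) K ≅
      (Scheme.Modules.pushforward a').obj (tens hF (pb a' K)) :=
    ((DCoh.tensorBi (X := Z)).mapIso bc).app K ≪≫ asIso (ProjClosedImmLib.projR a' hF K)
  have h1 : IsZero ((Coh.Rpush d q).obj ((Scheme.Modules.pushforward a').obj (tens hF (pb a' K)))) :=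
    (hac G inferInstance).of_iso ((Coh.Rpush d q).mapIso e₁).symm
  obtain ⟨e₂⟩ := RpushLib.nonempty_rpush_push_iso a' d (tens hF (pb a' K)) q
  haveI : QuasiCompact (p ≫ e) := by rw [he]; infer_instance
  haveI : QuasiSeparated (p ≫ e) := by rw [he]; infer_instance
  refine isZero_rpush_of_comp_affine p e (tens hF (pb a' K)) q ?_
  rw [he]
  exact h1.of_iso e₂.symm

/-- The triple product maps to the product of the outer factors by a base change. -/
theorem isPullback_triple {S T X Y W : Scheme.{u}} (tT : T ⟶ S) (tX : X ⟶ S) (tY : Y ⟶ S)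
    {h : W ⟶ pullback tT tX} {a' : W ⟶ pullback tX tY}
    (H : IsPullback h a' (pullback.snd tT tX) (pullback.fst tX tY))
    (p : W ⟶ pullback tT tY) (h₁ : p ≫ pullback.fst tT tY = h ≫ pullback.fst tT tX)
    (h₂ : p ≫ pullback.snd tT tY = a' ≫ pullback.snd tX tY) :
    IsPullback a' p (pullback.snd tX tY) (pullback.snd tT tY) := by
  have big : IsPullback a' (h ≫ pullback.fst tT tX) (pullback.fst tX tY ≫ tX) tT :=
    H.flip.paste_vert (IsPullback.of_hasPullback tT tX).flip
  refine IsPullback.of_bot (v₁₂ := pullback.snd tX tY) (v₂₂ := tY) ?_ h₂.symm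
    (IsPullback.of_hasPullback tT tY).flip
  rw [h₁, ← pullback.condition]
  exact big

end AffVanBCLib

end
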